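import Mathlib.LinearAlgebra.Matrix.NonsingularInverse
import Mathlib.LinearAlgebra.Matrix.Swap
import Mathlib.RingTheory.Jacobson.Ideal
import Mathlib.Algebra.MvPolynomial.CommRing
import Mathlib.Algebra.MvPolynomial.Eval
import Mathlib.Tactic.Ring
import Mathlib.Tactic.LinearCombination

/-!
Diagonalising hermitian matrices over a commutative ring with involution whose fixed ring is local.
-/
set_option autoImplicit false
universe u
open Matrix

namespace Groth.Agent.HermDiag

variable {A : Type u} [CommRing A] (lam : A ≃+* A)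

/-- sesquilinear value -/
def sform {n : ℕ} (h : Matrix (Fin n) (Fin n) A) (x y : Fin n → A) : A :=
  (lam ∘ x) ⬝ᵥ (h *ᵥ y)

/-- congruence -/
def congr {n : ℕ} (h v : Matrix (Fin n) (Fin n) A) : Matrix (Fin n) (Fin n) A :=
  (v.map lam)ᵀ * h * v

variable {n : ℕ} (h : Matrix (Fin n) (Fin n) A)

theorem congr_apply (v : Matrix (Fin n) (Fin n) A) (i j : Fin n) :
    congr lam h v i j = sform lam h (fun k => v k i) (fun k => v k j) := by
  rw [congr, Matrix.mul_assoc]
  rfl

theorem congr_congr (v w : Matrix (Fin n) (Fin n) A) :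
    congr lam (congr lam h v) w = congr lam h (v * w) := by
  simp only [congr, Matrix.map_mul, Matrix.transpose_mul, Matrix.mul_assoc]

theorem sform_congr (v : Matrix (Fin n) (Fin n) A) (x y : Fin n → A) :
    sform lam (congr lam h v) x y = sform lam h (v *ᵥ x) (v *ᵥ y) := by
  have hlx : (lam : A → A) ∘ (v *ᵥ x) = v.map lam *ᵥ (lam ∘ x) := by
    funext i
    exact RingHom.map_mulVec (lam : A →+* A) v x i
  rw [sform, sform, congr, hlx, ← Matrix.mulVec_mulVec, ← Matrix.mulVec_mulVec,
    Matrix.dotProduct_mulVec, Matrix.vecMul_transpose]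

theorem sform_single (i j : Fin n) (a b : A) :
    sform lam h (Pi.single i a) (Pi.single j b) = lam a * h i j * b := by
  have hs : (lam : A → A) ∘ Pi.single i a = Pi.single i (lam a) := by
    funext k
    rcases eq_or_ne k i with rfl | hk
    · simp
    · simp [hk]
  simp [sform, hs, mul_assoc]
  ring

theorem sform_add_left (x y z : Fin n → A) :
    sform lam h (x + y) z = sform lam h x z + sform lam h y z := by
  rw [sform, sform, sform, ← add_dotProduct]
  congr 1
  funext i
  simp

theorem sform_add_right (x y z : Fin n → A) :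
    sform lam h x (y + z) = sform lam h x y + sform lam h x z := by
  rw [sform, sform, sform, Matrix.mulVec_add, dotProduct_add]

variable (ε : A) (hlam : Function.Involutive lam)

/-- hermitian symmetry -/
def IsHerm : Prop := ∀ i j, ε * lam (h j i) = h i j

variable {h ε}

include hlam in
theorem sform_symm (hh : IsHerm lam h ε) (x y : Fin n → A) :
    sform lam h x y = ε * lam (sform lam h y x) := by
  simp only [sform, dotProduct, Function.comp_apply, Matrix.mulVec, map_sum, map_mul, hlam _,
    Finset.mul_sum]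
  rw [Finset.sum_comm]
  refine Finset.sum_congr rfl fun i _ => Finset.sum_congr rfl fun j _ => ?_
  rw [← hh j i]
  ring

include hlam in
theorem IsHerm.congr (hh : IsHerm lam h ε) (v : Matrix (Fin n) (Fin n) A) :
    IsHerm lam (congr lam h v) ε := fun i j => by
  rw [congr_apply, congr_apply, sform_symm lam hlam hh (fun k => v k i) (fun k => v k j)]

variable (hJ : ∀ b : A, lam b = b → ¬IsUnit b → b ∈ Ring.jacobson A) (hε : ε = 1 ∨ ε = -1)
  (hne : ¬ Subsingleton A)

theorem isUnit_add {u j : A} (hu : IsUnit u) (hj : j ∈ Ring.jacobson A) : IsUnit (u + j) := by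
  obtain ⟨u, rfl⟩ := hu
  rw [← Ideal.jacobson_bot] at hj
  have h := Ideal.mem_jacobson_bot.1 hj (↑u⁻¹ : A)
  have h2 : IsUnit ((j * (↑u⁻¹ : A) + 1) * (u : A)) := h.mul u.isUnit
  convert h2 using 1
  rw [add_mul, one_mul, mul_assoc, Units.inv_mul, mul_one, add_comm]

include hlam hJ hε in
theorem mem_jacobson_of_not_unit (hh : IsHerm lam h ε) (x : Fin n → A)
    (hq : ¬IsUnit (sform lam h x x)) : sform lam h x x ∈ Ring.jacobson A := by
  set q := sform lam h x x with hqdef
  have hsym : q = ε * lam q := sform_symm lam hlam hh x x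
  have hlamq : lam q = ε * q := by
    rcases hε with rfl | rfl
    · rw [one_mul] at hsym ⊢; exact hsym.symm
    · rw [neg_one_mul] at hsym ⊢; exact (neg_eq_iff_eq_neg.2 hsym).symm
  have hqq : q * q ∈ Ring.jacobson A := hJ _ (by
    rw [map_mul, hlamq]
    rcases hε with rfl | rfl <;> ring) fun hu => hq (isUnit_of_mul_isUnit_left hu)
  rw [← Ideal.jacobson_bot, Ideal.jacobson, Submodule.mem_sInf] at hqq ⊢
  intro M hM
  exact (hM.2.isPrime.mem_or_mem (hqq M hM)).elim id id

/-- all values of the form lie in the Jacobson radical -/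
def Alt (h : Matrix (Fin n) (Fin n) A) : Prop := ∀ x, sform lam h x x ∈ Ring.jacobson A

include hlam in
theorem sform_add (hh : IsHerm lam h ε) (x y : Fin n → A) :
    sform lam h (x + y) (x + y) =
      sform lam h x x + sform lam h y y + (sform lam h x y + ε * lam (sform lam h x y)) := by
  rw [sform_add_left, sform_add_right, sform_add_right, ← sform_symm lam hlam hh y x]
  ring

include hlam in
/-- A form with small diagonal and small symmetrised entries is alternating. -/
theorem alt_of_entries (hh : IsHerm lam h ε) (hd : ∀ i, h i i ∈ Ring.jacobson A)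
    (hs : ∀ (i j : Fin n) (a : A), i ≠ j → a * h i j + ε * lam (a * h i j) ∈ Ring.jacobson A) :
    Alt lam h := by
  classical
  intro x
  rw [show x = ∑ i, Pi.single i (x i) from (Finset.univ_sum_single x).symm]
  suffices ∀ s : Finset (Fin n), sform lam h (∑ i ∈ s, Pi.single i (x i)) (∑ i ∈ s, Pi.single i (x i)) ∈
      Ring.jacobson A ∧ ∀ j, j ∉ s → ∀ b,
        sform lam h (∑ i ∈ s, Pi.single i (x i)) (Pi.single j b) +
          ε * lam (sform lam h (∑ i ∈ s, Pi.single i (x i)) (Pi.single j b)) ∈ Ring.jacobson A from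
    (this Finset.univ).1
  intro s
  induction s using Finset.induction with
  | empty => simp [sform]
  | insert i s hi ih =>
    rw [Finset.sum_insert hi, add_comm]
    refine ⟨?_, fun j hj b => ?_⟩
    · rw [sform_add lam hlam hh]
      refine add_mem (add_mem ih.1 ?_) (ih.2 i hi _)
      rw [sform_single]
      exact Ideal.mul_mem_right _ _ (Ideal.mul_mem_left _ _ (hd i))
    · rw [Finset.mem_insert, not_or] at hj
      rw [sform_add_left, map_add, mul_add, add_add_add_comm]
      refine add_mem (ih.2 j hj.2 b) ?_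
      rw [sform_single, show lam (x i) * h i j * b = lam (x i) * b * h i j by ring]
      exact hs i j _ (Ne.symm hj.1)

include hlam hJ hε in
/-- A unit value is taken at a vector with a coordinate equal to one. -/
theorem exists_good (hh : IsHerm lam h ε) (hna : ¬ Alt lam h) :
    ∃ (i : Fin n) (x : Fin n → A), x i = 1 ∧ IsUnit (sform lam h x x) := by
  classical
  by_contra hcon
  push Not at hcon
  have hd : ∀ i, h i i ∈ Ring.jacobson A := fun i => by
    have := mem_jacobson_of_not_unit lam hlam hJ hε hh _ (hcon i (Pi.single i 1) (by simp))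
    rwa [sform_single, map_one, one_mul, mul_one] at this
  refine hna (alt_of_entries lam hlam hh hd fun i j a hij => ?_)
  have := mem_jacobson_of_not_unit lam hlam hJ hε hh _
    (hcon i (Pi.single i 1 + Pi.single j a) (by simp [hij]))
  rw [sform_add lam hlam hh, sform_single, sform_single, sform_single, map_one, one_mul, one_mul,
    mul_one, mul_comm (h i j) a] at this
  have h2 : lam a * h j j * a ∈ Ring.jacobson A :=
    Ideal.mul_mem_right _ _ (Ideal.mul_mem_left _ _ (hd j))
  exact (Submodule.add_mem_iff_right _ (add_mem (hd i) h2)).1 this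

include hlam in
/-- Split off a vector with unit value and first coordinate one. -/
theorem exists_split {h : Matrix (Fin (n + 1)) (Fin (n + 1)) A} (hh : IsHerm lam h ε)
    (x : Fin (n + 1) → A) (hx : x 0 = 1) (hu : IsUnit (sform lam h x x)) :
    ∃ v : Matrix (Fin (n + 1)) (Fin (n + 1)) A, IsUnit v ∧ (∀ k, v k 0 = x k) ∧
      congr lam h v 0 0 = sform lam h x x ∧
      ∀ k : Fin n, congr lam h v 0 k.succ = 0 ∧ congr lam h v k.succ 0 = 0 := by
  classical
  obtain ⟨u, hu⟩ := hu
  set V₁ : Matrix (Fin (n + 1)) (Fin (n + 1)) A := (1 : Matrix _ _ A).updateCol 0 x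
  set c : Fin (n + 1) → A := fun k => if k = 0 then 1 else -((↑u⁻¹ : A) * sform lam h x (Pi.single k 1))
  set V₂ : Matrix (Fin (n + 1)) (Fin (n + 1)) A := (1 : Matrix _ _ A).updateRow 0 c
  have h1 : IsUnit V₁ := by
    rw [Matrix.isUnit_iff_isUnit_det, ← Matrix.cramer_apply, Matrix.cramer_one]
    simp [hx]
  have h2 : IsUnit V₂ := by
    rw [Matrix.isUnit_iff_isUnit_det, ← Matrix.det_transpose, show V₂ = (1 : Matrix _ _ A).updateRow 0 c from rfl,
      ← Matrix.updateCol_transpose,
      Matrix.transpose_one, ← Matrix.cramer_apply, Matrix.cramer_one]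
    simp [c]
  have hcol : ∀ j, (fun k => (V₁ * V₂) k j) =
      if j = 0 then x else Pi.single j 1 + c j • x := by
    intro j
    funext k
    rw [Matrix.mul_apply, Fin.sum_univ_succ]
    rcases eq_or_ne j 0 with rfl | hj
    · simp [V₁, V₂, c, Matrix.updateCol_apply, Matrix.updateRow_apply, Matrix.one_apply, Fin.succ_ne_zero]
    · obtain ⟨l, rfl⟩ := Fin.exists_succ_eq.2 hj
      rw [Finset.sum_eq_single l (fun b _ hb => by
        simp [V₂, Matrix.updateRow_apply, Matrix.one_apply, Fin.succ_ne_zero, hb]) (by simp)]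
      simp only [V₁, V₂, Matrix.updateCol_apply, Matrix.updateRow_apply, Matrix.one_apply,
        Fin.succ_ne_zero, if_false, if_true, mul_one, Pi.single_apply, Pi.add_apply, Pi.smul_apply,
        smul_eq_mul]
      rw [mul_comm (x k), add_comm]
  have h0k : ∀ k : Fin n, congr lam h (V₁ * V₂) 0 k.succ = 0 := fun k => by
    have hr : ∀ a : A, sform lam h x (a • x) = a * sform lam h x x := fun a => by
      rw [sform, sform, Matrix.mulVec_smul, dotProduct_smul, smul_eq_mul]
    rw [congr_apply, hcol, hcol, if_pos rfl, if_neg (Fin.succ_ne_zero k), sform_add_right, hr, ← hu]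
    simp only [c, if_neg (Fin.succ_ne_zero k)]
    rw [neg_mul, mul_right_comm, Units.inv_mul, one_mul, add_neg_cancel]
  refine ⟨V₁ * V₂, h1.mul h2, fun k => ?_, ?_, fun k => ⟨h0k k, ?_⟩⟩
  · exact (congrFun (hcol 0) k).trans (by rw [if_pos rfl])
  · rw [congr_apply, hcol, if_pos rfl]
  · rw [← hh.congr lam hlam (V₁ * V₂) k.succ 0, h0k, map_zero, mul_zero]

/-- the block extension of a matrix -/
def ext1 (w : Matrix (Fin n) (Fin n) A) : Matrix (Fin (n + 1)) (Fin (n + 1)) A :=
  Matrix.of (Fin.cases (Fin.cases 1 0) fun i => Fin.cases 0 (w i))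

theorem det_of_row_zero (M : Matrix (Fin (n + 1)) (Fin (n + 1)) A) (h0 : ∀ k : Fin n, M 0 k.succ = 0) :
    M.det = M 0 0 * (M.submatrix Fin.succ Fin.succ).det := by
  rw [Matrix.det_succ_row_zero, Fin.sum_univ_succ, Finset.sum_eq_zero fun k _ => by rw [h0]; ring]
  simp

theorem det_ext1 (w : Matrix (Fin n) (Fin n) A) : (ext1 w).det = w.det := by
  rw [det_of_row_zero _ fun k => rfl]
  exact one_mul _

/-- permutation and split -/
theorem exists_split' {h : Matrix (Fin (n + 1)) (Fin (n + 1)) A} (hlam : Function.Involutive lam)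
    (hh : IsHerm lam h ε) (i : Fin (n + 1)) (x : Fin (n + 1) → A) (hx : x i = 1)
    (hu : IsUnit (sform lam h x x)) :
    ∃ v : Matrix (Fin (n + 1)) (Fin (n + 1)) A, IsUnit v ∧
      congr lam h v 0 0 = sform lam h x x ∧ v *ᵥ (Pi.single 0 1) = x ∧
      ∀ k : Fin n, congr lam h v 0 k.succ = 0 ∧ congr lam h v k.succ 0 = 0 := by
  classical
  set P : Matrix (Fin (n + 1)) (Fin (n + 1)) A := Matrix.swap A 0 i
  have hP : IsUnit P :=
    IsUnit.of_mul_eq_one (b := P) (Matrix.swap_mul_self 0 i)
  have hPx : ∀ y : Fin (n + 1) → A, P *ᵥ y = y ∘ Equiv.swap 0 i := fun y => Matrix.swap_mulVec 0 i y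
  set x' := x ∘ Equiv.swap 0 i
  have hPP : P *ᵥ x' = x := by
    rw [hPx]; funext k; simp [x']
  have hval : sform lam (congr lam h P) x' x' = sform lam h x x := by rw [sform_congr, hPP]
  obtain ⟨v, hv, hcol, h00, hoff⟩ := exists_split lam hlam (hh.congr lam hlam P) x'
    (by simp [x', hx]) (hval ▸ hu)
  have hv0 : v *ᵥ Pi.single 0 1 = x' := by
    rw [Matrix.mulVec_single_one]
    exact funext hcol
  exact ⟨P * v, hP.mul hv, by rw [← congr_congr, h00, hval],
    by rw [← Matrix.mulVec_mulVec, hv0, hPP], fun k => by rw [← congr_congr]; exact hoff k⟩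

variable {lam} in
theorem congr_ext1 {h : Matrix (Fin (n + 1)) (Fin (n + 1)) A}
    (h0 : ∀ k : Fin n, h 0 k.succ = 0 ∧ h k.succ 0 = 0) (w : Matrix (Fin n) (Fin n) A)
    {d : Fin n → A} (hd : congr lam (h.submatrix Fin.succ Fin.succ) w = Matrix.diagonal d) :
    congr lam h (ext1 w) = Matrix.diagonal (Fin.cons (h 0 0) d) := by
  ext i j
  rw [congr, Matrix.mul_apply]
  simp only [Matrix.mul_apply, Matrix.transpose_apply, Matrix.map_apply, Fin.sum_univ_succ]
  refine Fin.cases ?_ (fun i => ?_) i <;> refine Fin.cases ?_ (fun j => ?_) j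
  · simp [ext1, h0]
  · simp [ext1, h0, Matrix.diagonal_apply_ne _ (Fin.succ_ne_zero j).symm]
  · simp [ext1, h0, Matrix.diagonal_apply_ne _ (Fin.succ_ne_zero i)]
  · have := congrFun (congrFun hd i) j
    rw [congr, Matrix.mul_apply] at this
    simp only [Matrix.mul_apply, Matrix.transpose_apply, Matrix.map_apply, Matrix.submatrix_apply] at this
    simp [ext1, h0, this, Matrix.diagonal_apply]

theorem sform_block {h : Matrix (Fin (n + 1)) (Fin (n + 1)) A}
    (h0 : ∀ k : Fin n, h 0 k.succ = 0 ∧ h k.succ 0 = 0) (a b : A) (y z : Fin n → A) :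
    sform lam h (Fin.cons a y) (Fin.cons b z) =
      lam a * h 0 0 * b + sform lam (h.submatrix Fin.succ Fin.succ) y z := by
  simp [sform, dotProduct, Matrix.mulVec, Fin.sum_univ_succ, h0, mul_assoc]

include hlam hJ hε hne in
/-- A hermitian invertible matrix with some unit value is congruent to a diagonal one. -/
theorem exists_diagonal : ∀ {n : ℕ} (h : Matrix (Fin n) (Fin n) A), IsHerm lam h ε → IsUnit h →
    ¬ Alt lam h → ∃ v : Matrix (Fin n) (Fin n) A, IsUnit v ∧
      ∃ d : Fin n → A, congr lam h v = Matrix.diagonal d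
  | 0, h, _, _, _ => ⟨1, isUnit_one, 0, Subsingleton.elim _ _⟩
  | n + 1, h, hh, hu, hna => by
    classical
    obtain ⟨i, x, hx, hxu⟩ := exists_good lam hlam hJ hε hh hna
    obtain ⟨v, hv, h00, -, hoff⟩ := exists_split' lam hlam hh i x hx hxu
    have hvlam : IsUnit (v.map lam)ᵀ := by
      rw [Matrix.isUnit_iff_isUnit_det, Matrix.det_transpose,
        show v.map lam = (lam : A →+* A).mapMatrix v from rfl, ← RingHom.map_det]
      exact ((Matrix.isUnit_iff_isUnit_det _).1 hv).map _
    -- reduce to a block matrix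
    suffices key : ∀ h : Matrix (Fin (n + 1)) (Fin (n + 1)) A, IsHerm lam h ε → IsUnit h →
        IsUnit (h 0 0) → (∀ k : Fin n, h 0 k.succ = 0 ∧ h k.succ 0 = 0) →
        ∃ v : Matrix (Fin (n + 1)) (Fin (n + 1)) A, IsUnit v ∧
          ∃ d : Fin (n + 1) → A, congr lam h v = Matrix.diagonal d by
      obtain ⟨w, hw, d, hd⟩ := key (congr lam h v) (hh.congr lam hlam v) ((hvlam.mul hu).mul hv)
        (h00 ▸ hxu) hoff
      exact ⟨v * w, hv.mul hw, d, by rw [← congr_congr, hd]⟩
    clear! h
    intro h hh hu h00 hoff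
    -- finish when the complement has a unit value
    have finish : ∀ h : Matrix (Fin (n + 1)) (Fin (n + 1)) A, IsHerm lam h ε → IsUnit h →
        (∀ k : Fin n, h 0 k.succ = 0 ∧ h k.succ 0 = 0) → ¬ Alt lam (h.submatrix Fin.succ Fin.succ) →
        ∃ v : Matrix (Fin (n + 1)) (Fin (n + 1)) A, IsUnit v ∧
          ∃ d : Fin (n + 1) → A, congr lam h v = Matrix.diagonal d := by
      intro h hh hu hoff hna
      have hdet := det_of_row_zero h fun k => (hoff k).1
      have hu' := (Matrix.isUnit_iff_isUnit_det _).1 hu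
      rw [hdet] at hu'
      obtain ⟨w, hw, d, hd⟩ := exists_diagonal (h.submatrix Fin.succ Fin.succ) (fun a b => hh _ _)
        ((Matrix.isUnit_iff_isUnit_det _).2 (isUnit_of_mul_isUnit_right hu')) hna
      refine ⟨ext1 w, ?_, _, congr_ext1 hoff w hd⟩
      rw [Matrix.isUnit_iff_isUnit_det, det_ext1]
      exact (Matrix.isUnit_iff_isUnit_det _).1 hw
    by_cases halt : Alt lam (h.submatrix Fin.succ Fin.succ)
    swap
    · exact finish h hh hu hoff halt
    cases n with
    | zero => exact ⟨1, isUnit_one, h.diag, by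
        ext a b
        obtain rfl : a = b := Subsingleton.elim (α := Fin 1) a b
        simp [congr]⟩
    | succ n =>
      set W := h.submatrix (Fin.succ : Fin (n + 1) → Fin (n + 1 + 1)) Fin.succ
      have hWu : IsUnit W.det := by
        have hu' := (Matrix.isUnit_iff_isUnit_det _).1 hu
        rw [det_of_row_zero h fun k => (hoff k).1] at hu'
        exact isUnit_of_mul_isUnit_right hu'
      set y : Fin (n + 1) → A := Pi.single 0 1
      set z : Fin (n + 1) → A := W⁻¹ *ᵥ y
      have hyz : sform lam W y z = 1 := by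
        rw [sform, Matrix.mulVec_mulVec, Matrix.mul_nonsing_inv _ hWu, Matrix.one_mulVec]
        simp [y]
      set x₁ : Fin (n + 1 + 1) → A := Fin.cons 1 y
      have hq₁ : IsUnit (sform lam h x₁ x₁) := by
        rw [sform_block lam hoff, map_one, one_mul, mul_one]
        exact isUnit_add h00 (halt y)
      obtain ⟨v₁, hv₁, -, hvx, hoff₁⟩ := exists_split' lam hlam hh 0 x₁ (Fin.cons_zero _ _) hq₁
      obtain ⟨u₀, hu₀⟩ := h00
      set w : Fin (n + 1 + 1) → A := Fin.cons (-(↑u₀⁻¹ : A)) z
      have horth : sform lam h x₁ w = 0 := by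
        rw [sform_block lam hoff, map_one, one_mul, hyz, ← hu₀, mul_neg, Units.mul_inv, neg_add_cancel]
      have hwq : IsUnit (sform lam h w w) := by
        rw [sform_block lam hoff]
        refine isUnit_add ?_ (halt z)
        rw [← hu₀]
        exact ((u₀⁻¹.isUnit.neg.map lam).mul u₀.isUnit).mul u₀⁻¹.isUnit.neg
      set h₁ := congr lam h v₁
      have hv₁lam : IsUnit (v₁.map lam)ᵀ := by
        rw [Matrix.isUnit_iff_isUnit_det, Matrix.det_transpose,
          show v₁.map lam = (lam : A →+* A).mapMatrix v₁ from rfl, ← RingHom.map_det]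
        exact ((Matrix.isUnit_iff_isUnit_det _).1 hv₁).map _
      have hna₁ : ¬ Alt lam (h₁.submatrix Fin.succ Fin.succ) := fun hA => by
        set w' := v₁⁻¹ *ᵥ w
        have hw' : v₁ *ᵥ w' = w := by
          rw [Matrix.mulVec_mulVec, Matrix.mul_nonsing_inv _ ((Matrix.isUnit_iff_isUnit_det _).1 hv₁),
            Matrix.one_mulVec]
        have hpos : IsUnit (h₁ 0 0) := by
          have : sform lam h₁ (Pi.single 0 1) (Pi.single 0 1) = h₁ 0 0 := by simp [sform_single]
          rw [← this, sform_congr, hvx]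
          exact hq₁
        have hw0 : w' 0 = 0 := by
          have h0 : sform lam h₁ (Pi.single 0 1) w' = 0 := by rw [sform_congr, hvx, hw', horth]
          rw [show (Pi.single 0 1 : Fin (n + 1 + 1) → A) = Fin.cons 1 0 by
              funext k; refine Fin.cases ?_ (fun k => ?_) k <;> simp,
            ← Fin.cons_self_tail w', sform_block lam hoff₁, map_one, one_mul] at h0
          simp only [sform, Pi.comp_zero, map_zero, zero_dotProduct, Function.const_zero,
            add_zero] at h0
          exact (hpos.mul_right_eq_zero).1 h0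
        have hq : sform lam h w w = sform lam (h₁.submatrix Fin.succ Fin.succ) (Fin.tail w') (Fin.tail w') := by
          rw [← hw', ← sform_congr, ← Fin.cons_self_tail w', sform_block lam hoff₁, hw0]
          simp
        have hmem := hA (Fin.tail w')
        rw [← hq] at hmem
        have : IsUnit (sform lam h w w + -sform lam h w w) := isUnit_add hwq (neg_mem hmem)
        rw [add_neg_cancel] at this
        have hsub : Subsingleton A := subsingleton_of_zero_eq_one (isUnit_zero_iff.1 this)
        exact hne hsub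
      obtain ⟨v₂, hv₂, d, hd⟩ := finish h₁ (hh.congr lam hlam v₁) ((hv₁lam.mul hu).mul hv₁) hoff₁ hna₁
      exact ⟨v₁ * v₂, hv₁.mul hv₂, d, by rw [← congr_congr, hd]⟩

/-- An alternating matrix of odd size is singular. -/
theorem det_alternating_odd {R : Type u} [CommRing R] {n : ℕ} (hn : Odd n) (M : Matrix (Fin n) (Fin n) R)
    (hd : ∀ i, M i i = 0) (hs : ∀ i j, M i j + M j i = 0) : M.det = 0 := by
  classical
  set U : Matrix (Fin n) (Fin n) (MvPolynomial (Fin n × Fin n) ℤ) :=
    Matrix.of fun i j => if i < j then MvPolynomial.X (i, j) else if j < i then -MvPolynomial.X (j, i) else 0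
  have hUt : Uᵀ = -U := by
    ext i j : 1
    simp only [U, Matrix.transpose_apply, Matrix.neg_apply, Matrix.of_apply]
    rcases lt_trichotomy i j with h | rfl | h
    · rw [if_neg h.not_gt, if_pos h, if_pos h]
    · simp
    · rw [if_pos h, if_neg h.not_gt, if_pos h, neg_neg]
  have h0 : U.det = 0 := by
    have h := Matrix.det_transpose U
    rw [hUt, Matrix.det_neg, Fintype.card_fin, hn.neg_one_pow, neg_one_mul] at h
    exact (mul_eq_zero.1 (show (2 : MvPolynomial (Fin n × Fin n) ℤ) * U.det = 0 by linear_combination -h)).resolve_left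
      (fun h2 => two_ne_zero (α := ℤ) (by simpa [map_ofNat] using congrArg MvPolynomial.constantCoeff h2))
  let f : MvPolynomial (Fin n × Fin n) ℤ →+* R :=
    MvPolynomial.eval₂Hom (Int.castRingHom R) fun p => M p.1 p.2
  have hM : M = f.mapMatrix U := by
    ext i j
    simp only [U, RingHom.mapMatrix_apply, Matrix.map_apply, Matrix.of_apply]
    rcases lt_trichotomy i j with h | rfl | h
    · simp [h, f]
    · simp [hd]
    · rw [if_neg h.not_gt, if_pos h, map_neg]
      simp only [f, MvPolynomial.eval₂Hom_X']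
      exact eq_neg_of_add_eq_zero_left (hs i j)
  rw [hM, ← RingHom.map_det, h0, map_zero]

end Groth.Agent.HermDiag
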